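import Groth.Agent.Lib.FEt.DepthTwo
import Mathlib.RingTheory.Localization.AtPrime.Basic
import Mathlib.RingTheory.Localization.LocalizationLocalization
import Mathlib.RingTheory.IntegralClosure.IntegrallyClosed

/-!
# A regular pair makes a generically normal local ring normal
-/

set_option autoImplicit false
set_option linter.style.haveILetI false

universe u

open IsLocalRing
open scoped nonZeroDivisors

namespace Groth.Agent.H78.ParaF.NormalPair

open Groth.Agent.Lib.FEt.DepthTwo

variable {A : Type u} [CommRing A] [IsLocalRing A] [IsNoetherianRing A]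

omit [IsNoetherianRing A] in
lemma exists_pow_mem {I : Ideal A}
    (h : ∀ p : Ideal A, p.IsPrime → p ≠ maximalIdeal A → ¬ I ≤ p) {a : A}
    (ha : a ∈ maximalIdeal A) : ∃ n : ℕ, a ^ n ∈ I := by
  show a ∈ I.radical
  rw [Ideal.radical_eq_sInf, Submodule.mem_sInf]
  intro p hp
  by_contra hap
  exact h p hp.2 (fun e => hap (e ▸ ha)) hp.1

lemma eq_zero_of_forall_localization {a : A} (ha : a ∈ maximalIdeal A) (hreg : IsSMulRegular A a)
    {x : A}
    (h : ∀ (p : Ideal A) [p.IsPrime], p ≠ maximalIdeal A →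
      algebraMap A (Localization.AtPrime p) x = 0) : x = 0 := by
  obtain ⟨n, hn⟩ := exists_pow_mem (I := LinearMap.ker (LinearMap.toSpanSingleton A A x))
    (fun p hp hne hle => by
      obtain ⟨s, hs⟩ := (IsLocalization.map_eq_zero_iff p.primeCompl _ x).mp (h p hne)
      exact s.2 (hle hs)) ha
  exact hreg.pow n (show a ^ n * x = a ^ n * 0 by rw [mul_zero]; exact hn)

omit [IsLocalRing A] in
lemma exists_mem_annihilator_notMem {J p : Ideal A} [p.IsPrime]
    (h : ∀ j ∈ J, algebraMap A (Localization.AtPrime p) j = 0) :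
    ∃ s : A, s ∉ p ∧ ∀ j ∈ J, s * j = 0 := by
  classical
  obtain ⟨t, ht⟩ := IsNoetherian.noetherian J
  choose s hs using fun j : t => (IsLocalization.map_eq_zero_iff p.primeCompl
    (Localization.AtPrime p) (j : A)).mp (h j (ht ▸ Submodule.subset_span j.2))
  refine ⟨((∏ j : t, s j : p.primeCompl) : A), (∏ j : t, s j).2, fun j hj => ?_⟩
  rw [← ht] at hj
  induction hj using Submodule.span_induction with
  | mem y hy =>
    obtain ⟨c, hc⟩ : s ⟨y, hy⟩ ∣ ∏ j : t, s j := Finset.dvd_prod_of_mem s (Finset.mem_univ _)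
    have hy0 : ((s ⟨y, hy⟩ : p.primeCompl) : A) * y = 0 := hs ⟨y, hy⟩
    rw [hc, Submonoid.coe_mul]
    linear_combination (c : A) * hy0
  | zero => rw [mul_zero]
  | add y z _ _ hy hz => rw [mul_add, hy, hz, add_zero]
  | smul r y _ hy => rw [smul_eq_mul, mul_left_comm, hy, mul_zero]

/-- Depth two and domains at all other points: the ring is a domain. -/
theorem isDomain_of_punctured (hd : (2 : ℕ∞) ≤ LocCoh.depth A A)
    (hU : ∀ (p : Ideal A) [p.IsPrime], p ≠ maximalIdeal A → IsDomain (Localization.AtPrime p)) :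
    IsDomain A := by
  obtain ⟨a, ha, hreg⟩ := exists_regular hd
  obtain ⟨b, hb, hbreg⟩ := exists_regular_mod hd ha hreg
  have hred : ∀ z : A, z * z = 0 → z = 0 := fun z hz =>
    eq_zero_of_forall_localization ha hreg fun p _ hne => by
      haveI := hU p hne
      exact mul_self_eq_zero.mp (by rw [← map_mul, hz, map_zero])
  suffices NoZeroDivisors A from NoZeroDivisors.to_isDomain A
  refine ⟨fun {x y} hxy => or_iff_not_imp_left.mpr fun hx => by_contra fun hy => ?_⟩
  let J : Ideal A := LinearMap.ker (LinearMap.toSpanSingleton A A x)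
  let K : Ideal A :=
    { carrier := {v | ∀ j ∈ J, v * j = 0}
      add_mem' := fun hv hw j hj => by rw [add_mul, hv j hj, hw j hj, add_zero]
      zero_mem' := fun j _ => zero_mul j
      smul_mem' := fun r v hv j hj => by rw [smul_eq_mul, mul_assoc, hv j hj, mul_zero] }
  have hJ : ∀ {j : A}, j ∈ J ↔ j * x = 0 := Iff.rfl
  have hnot : ∀ p : Ideal A, p.IsPrime → p ≠ maximalIdeal A → ¬ J ⊔ K ≤ p := by
    intro p hp hne hle
    haveI := hU p hne
    by_cases h0 : algebraMap A (Localization.AtPrime p) x = 0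
    · obtain ⟨s, hs⟩ := (IsLocalization.map_eq_zero_iff p.primeCompl _ x).mp h0
      exact s.2 (hle (Ideal.mem_sup_left (hJ.mpr hs)))
    · obtain ⟨s, hs, hs'⟩ := exists_mem_annihilator_notMem (J := J) (p := p) fun j hj => by
        have := congrArg (algebraMap A (Localization.AtPrime p)) (hJ.mp hj)
        rw [map_mul, map_zero] at this
        exact (mul_eq_zero.mp this).resolve_right h0
      exact hs (hle (Ideal.mem_sup_right hs'))
  obtain ⟨n, hn⟩ := exists_pow_mem hnot ha
  obtain ⟨m, hm⟩ := exists_pow_mem hnot hb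
  obtain ⟨u, hu, v, hv, huv⟩ := Submodule.mem_sup.mp hn
  obtain ⟨u', hu', v', hv', huv'⟩ := Submodule.mem_sup.mp hm
  have hz : u * b ^ m = u' * a ^ n := by
    rw [← huv, ← huv', mul_add, mul_add, mul_comm u v', mul_comm u' v, mul_comm u' u,
      hv' u hu, hv u' hu']
  obtain ⟨e, rfl⟩ := dvd_of_dvd_pow_mul hreg hbreg n m u ⟨u', by rw [mul_comm, hz, mul_comm]⟩
  have hve : v = a ^ n * (1 - e) := by linear_combination huv
  have hx' : a ^ n * (e * x) = 0 := by rw [← mul_assoc]; exact hJ.mp hu
  have hex : e * x = 0 := hreg.pow n (by simpa using hx')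
  have hej : ∀ j ∈ J, (1 - e) * j = 0 := fun j hj => by
    refine hreg.pow n ?_
    have := hv j hj
    rw [hve, mul_assoc] at this
    simpa using this
  rcases IsLocalRing.isUnit_or_isUnit_one_sub_self e with he | he
  · exact hx (he.mul_right_eq_zero.mp hex)
  · exact hy (he.mul_right_eq_zero.mp (hej y (hJ.mpr (by rw [mul_comm]; exact hxy))))

/-- Depth two and integrally closed at all other points: the ring is integrally closed. -/
theorem isIntegrallyClosed_of_punctured [IsDomain A] (hd : (2 : ℕ∞) ≤ LocCoh.depth A A)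
    (hU : ∀ (p : Ideal A) [p.IsPrime], p ≠ maximalIdeal A →
      IsIntegrallyClosed (Localization.AtPrime p)) :
    IsIntegrallyClosed A := by
  obtain ⟨a, ha, hreg⟩ := exists_regular hd
  obtain ⟨b, hb, hbreg⟩ := exists_regular_mod hd ha hreg
  let K := FractionRing A
  refine (isIntegrallyClosed_iff K).mpr fun {x} hx => ?_
  let D : Ideal A :=
    { carrier := {r | ∃ t : A, algebraMap A K r * x = algebraMap A K t}
      add_mem' := fun ⟨t, ht⟩ ⟨t', ht'⟩ => ⟨t + t', by rw [map_add, map_add, add_mul, ht, ht']⟩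
      zero_mem' := ⟨0, by rw [map_zero, zero_mul]⟩
      smul_mem' := fun r v ⟨t, ht⟩ => ⟨r * t, by
        rw [smul_eq_mul, map_mul, map_mul, mul_assoc, ht]⟩ }
  have hnot : ∀ p : Ideal A, p.IsPrime → p ≠ maximalIdeal A → ¬ D ≤ p := by
    intro p hp hne hle
    haveI := hU p hne
    have hpn : p.primeCompl ≤ A⁰ := p.primeCompl_le_nonZeroDivisors
    letI : Algebra (Localization.AtPrime p) K :=
      IsLocalization.localizationAlgebraOfSubmonoidLe _ K p.primeCompl A⁰ hpn
    haveI : IsScalarTower A (Localization.AtPrime p) K :=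
      IsLocalization.localization_isScalarTower_of_submonoid_le _ K p.primeCompl A⁰ hpn
    haveI : IsFractionRing (Localization.AtPrime p) K :=
      IsFractionRing.isFractionRing_of_isDomain_of_isLocalization p.primeCompl _ K
    obtain ⟨y, hy⟩ := IsIntegrallyClosed.isIntegral_iff.mp
      (hx.tower_top : IsIntegral (Localization.AtPrime p) x)
    obtain ⟨⟨t, s⟩, hts⟩ := IsLocalization.surj p.primeCompl y
    refine s.2 (hle ⟨t, ?_⟩)
    have := congrArg (algebraMap (Localization.AtPrime p) K) hts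
    rw [map_mul, hy, ← IsScalarTower.algebraMap_apply, ← IsScalarTower.algebraMap_apply] at this
    rw [mul_comm]; exact this
  obtain ⟨n, hn⟩ := exists_pow_mem hnot ha
  obtain ⟨m, hm⟩ := exists_pow_mem hnot hb
  obtain ⟨t, ht⟩ := hn
  obtain ⟨t', ht'⟩ := hm
  have hz : b ^ m * t = a ^ n * t' := by
    refine IsFractionRing.injective A K ?_
    rw [map_mul, map_mul, ← ht, ← ht']
    ring
  obtain ⟨e, rfl⟩ := dvd_of_dvd_pow_mul hreg hbreg n m t ⟨t', hz⟩
  refine ⟨e, ?_⟩
  have ha0 : algebraMap A K (a ^ n) ≠ 0 := by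
    refine (map_ne_zero_iff _ (IsFractionRing.injective A K)).mpr (pow_ne_zero n ?_)
    rintro rfl
    exact one_ne_zero (hreg (by simp) : (1 : A) = 0)
  refine mul_left_cancel₀ ha0 ?_
  rw [ht, map_mul]

end Groth.Agent.H78.ParaF.NormalPair
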