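import Groth.Agent.H78.ParaF.Punctured
import Groth.Agent.Lib.CDivInt.Parafactorial
import Groth.Agent.Lib.CDivInt.Pic
import Groth.Agent.H78.ParaF.NormalPair

/-!
# Parafactoriality and unique factorisation
-/

set_option autoImplicit false
set_option linter.style.haveILetI false

universe u

open CategoryTheory Limits AlgebraicGeometry Opposite TopologicalSpace IsLocalRing

namespace Groth.Agent.H78.ParaF.UFD

open Groth.Agent.Lib Groth.Agent.H78.ParaF.Punctured

/-- A Noetherian local UFD of dimension at least two is parafactorial. -/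
theorem isParafactorial_of_ufd (A : Type u) [CommRing A] [IsDomain A] [IsNoetherianRing A]
    [IsLocalRing A] (hA : UniqueFactorizationMonoid A) (hdim : (2 : WithBot ℕ∞) ≤ ringKrullDim A) :
    ParaF.IsParafactorialLocalRing A := by
  exact (Lib.ParaF.Local.isParafactorialLocalRing_iff A).mpr
    ⟨res_bijective_of_depth A (H80.PuncturedExt.two_le_depth hdim), picTrivial_punctured A hA⟩

theorem picTrivial_punctured_of_equiv {A B : Type u} [CommRing A] [CommRing B] [IsLocalRing A]
    [IsLocalRing B] (e : A ≃+* B) (h : ParaF.PicTrivial (FEt.puncturedSpec A : Scheme.{u})) :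
    ParaF.PicTrivial (FEt.puncturedSpec B : Scheme.{u}) := by
  let φ : CommRingCat.of A ≅ CommRingCat.of B := e.toCommRingCatIso
  haveI : IsLocalHom e.toRingHom := ⟨fun a ha => (isUnit_map_iff e a).mp ha⟩
  let g := Spec.map φ.hom
  have hc : g (closedPoint B) = closedPoint A := IsLocalRing.comap_closedPoint e.toRingHom
  have hU : g ⁻¹ᵁ FEt.puncturedSpec A = FEt.puncturedSpec B := by
    ext x
    show g x ≠ closedPoint A ↔ x ≠ closedPoint B
    rw [← hc]
    exact (g.homeomorph.injective.ne_iff (x := x) (y := closedPoint B))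
  exact Lib.ParaF.Local.picTrivial_of_isIso
    ((Spec (CommRingCat.of B)).isoOfEq hU).inv
    (Lib.ParaF.Local.picTrivial_of_isIso (g ∣_ FEt.puncturedSpec A) h)

variable {X : Scheme.{u}} [IsIntegral X] [IsLocallyNoetherian X]

theorem ufd_of_parafactorial (hX : Pi1.IsNormalScheme X)
    (hpar : ∀ x : X, (2 : WithBot ℕ∞) ≤ ringKrullDim (X.presheaf.stalk x) →
      ParaF.IsParafactorialLocalRing (X.presheaf.stalk x)) (x : X) :
    UniqueFactorizationMonoid (X.presheaf.stalk x) := by
  refine (CDivInt.Pic.forall_cycle_iff_ufd hX).mp (fun Z _ hfin => ?_) x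
  have hD := CDivInt.Pic.isDiv_of_locFinite hfin
  have hP : CDivInt.Pic.LocPrincipal Z := fun y => by
    obtain ⟨f, hf⟩ := CDivInt.Parafactorial.principalAt_everywhere hX ∅
      (fun z _ hz => hpar z hz) hD (by simp) y
    obtain ⟨W, hW, hWf⟩ := CDivInt.Parafactorial.exists_nhds_of_principalAt hX hD hf
    exact ⟨W, f, hW, hWf⟩
  obtain ⟨v, hv, hvZ⟩ := RefHull.DivRef.exists_section (hX := hX) hD
  exact ⟨_, CDivInt.Pic.isInvertible_divSh hX hP, Submodule.Quotient.mk v,
    fun e => hv (RefHull.Ord.mk_injective (e.trans (Submodule.Quotient.mk_zero _).symm)), hvZ⟩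

end Groth.Agent.H78.ParaF.UFD

namespace Groth.Agent.H78.ParaF.UFD

open Groth.Agent.Lib Groth.Agent.H78.ParaF.Punctured
open scoped nonZeroDivisors

variable (A : Type u) [CommRing A]

theorem stalk_ufd_of_ufd [IsDomain A] (hA : UniqueFactorizationMonoid A)
    (y : Spec (CommRingCat.of A)) :
    UniqueFactorizationMonoid ((Spec (CommRingCat.of A)).presheaf.stalk y) := by
  have key : ∀ q : PrimeSpectrum A,
      UniqueFactorizationMonoid ((Spec.structureSheaf A).presheaf.stalk q) := fun q =>
    (IsLocalization.algEquiv q.asIdeal.primeCompl (Localization.AtPrime q.asIdeal)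
      ((Spec.structureSheaf A).presheaf.stalk q)).toMulEquiv.uniqueFactorizationMonoid inferInstance
  exact key y

variable [IsLocalRing A] [IsNoetherianRing A]

omit [IsNoetherianRing A] in
theorem isNormalScheme_spec [IsDomain A] [IsIntegrallyClosed A]
    (hU : ∀ y : ↥(Spec (CommRingCat.of A)), y ∈ FEt.puncturedSpec A →
      UniqueFactorizationMonoid ((Spec (CommRingCat.of A)).presheaf.stalk y)) :
    Pi1.IsNormalScheme (Spec (CommRingCat.of A)) := fun y => by
  refine ⟨inferInstance, ?_⟩
  by_cases hy : y ∈ FEt.puncturedSpec A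
  · haveI := hU y hy
    haveI : IsDomain ((Spec (CommRingCat.of A)).presheaf.stalk y) := inferInstance
    exact UniqueFactorizationMonoid.instIsIntegrallyClosed
  · obtain rfl : y = closedPoint A := by
      by_contra h
      exact hy h
    exact IsIntegrallyClosed.of_equiv (stalkClosedPointRingEquiv A)

/-- An integrally closed domain with trivial Picard group of the punctured spectrum, all of whose
other local rings are factorial, is factorial. -/
theorem ufd_of_picTrivial [IsDomain A] [IsIntegrallyClosed A]
    (hU : ∀ y : ↥(Spec (CommRingCat.of A)), y ∈ FEt.puncturedSpec A →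
      UniqueFactorizationMonoid ((Spec (CommRingCat.of A)).presheaf.stalk y))
    (hP : ParaF.PicTrivial (FEt.puncturedSpec A : Scheme.{u})) :
    UniqueFactorizationMonoid A := by
  have hX := isNormalScheme_spec A hU
  refine (stalkClosedPointEquiv A).symm.uniqueFactorizationMonoid
    (ufd_of_parafactorial hX (fun y hy2 => ?_) (closedPoint A))
  haveI := (hX y).1
  haveI := (hX y).2
  by_cases hy : y ∈ FEt.puncturedSpec A
  · exact isParafactorial_of_ufd _ (hU y hy) hy2
  · have hyc : y = closedPoint A := by
      by_contra h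
      exact hy h
    let e : A ≃+* (Spec (CommRingCat.of A)).presheaf.stalk y := by
      rw [hyc]; exact stalkClosedPointRingEquiv A
    exact (Lib.ParaF.Local.isParafactorialLocalRing_iff _).mpr
      ⟨res_bijective_of_depth _ (H80.PuncturedExt.two_le_depth hy2),
        picTrivial_punctured_of_equiv e hP⟩

/-- Local rings of depth at least two whose other local rings are domains and integrally closed. -/
theorem normal_of_punctured (hd : (2 : ℕ∞) ≤ LocCoh.depth A A)
    (hU : ∀ y : ↥(Spec (CommRingCat.of A)), y ∈ FEt.puncturedSpec A →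
      IsDomain ((Spec (CommRingCat.of A)).presheaf.stalk y) ∧
        IsIntegrallyClosed ((Spec (CommRingCat.of A)).presheaf.stalk y)) :
    IsDomain A ∧ IsIntegrallyClosed A := by
  have key : ∀ (q : PrimeSpectrum A), q.asIdeal ≠ maximalIdeal A →
      IsDomain (Localization.AtPrime q.asIdeal) ∧
        IsIntegrallyClosed (Localization.AtPrime q.asIdeal) := by
    intro q hne
    obtain ⟨h1, h2⟩ := hU q (fun h => hne (congrArg
      PrimeSpectrum.asIdeal (Set.mem_singleton_iff.mp h)))
    let e : (Spec.structureSheaf A).presheaf.stalk q ≃+* Localization.AtPrime q.asIdeal :=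
      (IsLocalization.algEquiv q.asIdeal.primeCompl _ (Localization.AtPrime q.asIdeal)).toRingEquiv
    haveI : IsDomain ((Spec.structureSheaf A).presheaf.stalk q) := h1
    haveI : IsIntegrallyClosed ((Spec.structureSheaf A).presheaf.stalk q) := h2
    exact ⟨e.toMulEquiv.isDomain_iff.mp h1, IsIntegrallyClosed.of_equiv e⟩
  haveI := NormalPair.isDomain_of_punctured hd fun p hp hne => (key ⟨p, hp⟩ hne).1
  exact ⟨inferInstance, NormalPair.isIntegrallyClosed_of_punctured hd fun p hp hne => (key ⟨p, hp⟩ hne).2⟩

end Groth.Agent.H78.ParaF.UFD
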