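import Groth.Agent.Lib.ParaF.Local
import Groth.Agent.S0234
import Groth.Agent.H80.PuncturedExt
import Groth.Agent.Lib.Regular.UFD

/-!
# The punctured spectrum of a local ring with factorial closed point
-/

set_option autoImplicit false
set_option linter.style.haveILetI false

universe u

open CategoryTheory Limits AlgebraicGeometry AlgebraicGeometry.StructureSheaf Opposite TopologicalSpace IsLocalRing
open Groth.Agent.Lib.ParaF.ResBij Groth.Agent.Lib.ParaF.Pair

namespace Groth.Agent.H78.ParaF.Punctured

variable (A : Type u) [CommRing A] [IsLocalRing A]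

lemma picTrivial_spec : ParaF.PicTrivial (Spec (CommRingCat.of A)) := fun M hM => by
  obtain ⟨W, hW, ⟨t⟩⟩ := hM (closedPoint A)
  obtain rfl : W = ⊤ := (closedPoint_mem_iff _).mp hW
  haveI : IsIso (⊤ : (Spec (CommRingCat.of A)).Opens).ι := (Scheme.topIso _).isIso_hom
  exact ⟨(restrictInvIso' (⊤ : (Spec (CommRingCat.of A)).Opens).ι M).symm ≪≫
      (Scheme.Modules.restrictFunctor (inv (⊤ : (Spec (CommRingCat.of A)).Opens).ι)).mapIso t ≪≫
      Scheme.Modules.restrictUnitIso _⟩

/-- The local ring at the closed point of `Spec A` is `A`. -/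
noncomputable def stalkClosedPointRingEquiv :
    A ≃+* (Spec (CommRingCat.of A)).presheaf.stalk (closedPoint A) :=
  (IsLocalization.atUnits A (closedPoint A).asIdeal.primeCompl
      (S := (Spec.structureSheaf A).presheaf.stalk (closedPoint A))
      (fun x hx => by
        simpa [IsUnit.mem_submonoid_iff, IsLocalRing.mem_maximalIdeal, mem_nonunits_iff, closedPoint] using hx)).toRingEquiv

/-- The multiplicative form of `stalkClosedPointRingEquiv`. -/
noncomputable def stalkClosedPointEquiv :
    A ≃* (Spec (CommRingCat.of A)).presheaf.stalk (closedPoint A) :=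
  (stalkClosedPointRingEquiv A).toMulEquiv

/-- Every invertible module on the punctured spectrum of a Noetherian local unique factorisation
domain is trivial. -/
theorem picTrivial_punctured [IsDomain A] [IsNoetherianRing A] (hA : UniqueFactorizationMonoid A) :
    ParaF.PicTrivial (FEt.puncturedSpec A : Scheme.{u}) := fun L hL => by
  obtain ⟨L', hL', ⟨e⟩⟩ := Groth.Agent.S0234.result (Spec (CommRingCat.of A)) (FEt.puncturedSpec A) L hL
    (fun x hx => by
      obtain rfl : x = closedPoint A := by
        by_contra h
        exact hx h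
      exact (stalkClosedPointEquiv A).uniqueFactorizationMonoid hA)
  obtain ⟨t⟩ := picTrivial_spec A L' hL'
  exact ⟨e.symm ≪≫ (Scheme.Modules.restrictFunctor _).mapIso t ≪≫
    Scheme.Modules.restrictUnitIso _⟩

/-- Functions on the punctured spectrum extend uniquely when the depth is at least two. -/
theorem res_bijective_of_depth [IsNoetherianRing A] (h : (2 : ℕ∞) ≤ LocCoh.depth A A) :
    Function.Bijective ((Spec (CommRingCat.of A)).presheaf.map
      (homOfLE (le_top : FEt.puncturedSpec A ≤ ⊤)).op) := by
  have := Groth.Agent.Lib.FEt.DepthTwo.isIso_restriction_punctured h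
    (𝟙 (Spec (CommRingCat.of A)))
  exact (ConcreteCategory.isIso_iff_bijective ((Spec (CommRingCat.of A)).presheaf.map
      (homOfLE (le_top : FEt.puncturedSpec A ≤ ⊤)).op)).mp this

end Groth.Agent.H78.ParaF.Punctured
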